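import Groth.Agent.Lib.LCI6.Smooth
import Groth.Agent.Lib.LCI6.Fibre
import Groth.Agent.Lib.Vasconcelos.Basic
import Groth.Agent.Lib.Serre.Regular
import Mathlib.RingTheory.Flat.EquationalCriterion
import Mathlib.RingTheory.LocalRing.Module

/-!
# Koszul regularity from a flat conormal module
-/

set_option autoImplicit false

universe u

open IsLocalRing TensorProduct

namespace GrothLib.NLAmp

/-- Extension of an ideal of the base meets an ideal with flat quotient in the product. -/
theorem inf_map_le_mul {R L : Type u} [CommRing R] [CommRing L] [Algebra R L] (r : Ideal R) (K : Ideal L)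
    [Module.Flat R (L ⧸ K)] : r.map (algebraMap R L) ⊓ K ≤ r.map (algebraMap R L) * K := by
  rintro z ⟨hz, hzK⟩
  obtain ⟨N, c, g, hsum⟩ := Submodule.mem_span_set'.mp
    (show z ∈ Submodule.span L ((algebraMap R L) '' (r : Set R)) from hz)
  choose t ht htg using fun i => (g i).2
  have h0 : ∑ i, t i • Ideal.Quotient.mk K (c i) = 0 := by
    simp only [Algebra.smul_def, IsScalarTower.algebraMap_apply R L (L ⧸ K), Ideal.Quotient.algebraMap_eq,
      ← map_mul, ← map_sum]
    refine Ideal.Quotient.eq_zero_iff_mem.mpr ?_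
    have hz2 : ∑ i, algebraMap R L (t i) * c i = z := by
      rw [← hsum]
      exact Finset.sum_congr rfl fun i _ => by rw [smul_eq_mul, ← htg i, mul_comm]
    rw [hz2]
    exact hzK
  obtain ⟨k, a, y, hy, ha⟩ := Module.Flat.isTrivialRelation_of_sum_smul_eq_zero (R := R) (M := L ⧸ K)
    (f := t) (x := fun i => Ideal.Quotient.mk K (c i)) (by exact h0)
  choose v hv using fun j => Ideal.Quotient.mk_surjective (y j)
  have hd : ∀ i, c i - ∑ j, algebraMap R L (a i j) * v j ∈ K := fun i => by
    rw [← Ideal.Quotient.eq, show Ideal.Quotient.mk K (c i) = _ from hy i, map_sum]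
    refine Finset.sum_congr rfl fun j _ => ?_
    rw [map_mul, hv, Algebra.smul_def, IsScalarTower.algebraMap_apply R L (L ⧸ K), Ideal.Quotient.algebraMap_eq]
  have hz' : z = ∑ i, algebraMap R L (t i) * (c i - ∑ j, algebraMap R L (a i j) * v j) := by
    have h2 : ∑ i, algebraMap R L (t i) * ∑ j, algebraMap R L (a i j) * v j = 0 := by
      simp only [Finset.mul_sum, ← mul_assoc, ← map_mul]
      rw [Finset.sum_comm]
      refine Finset.sum_eq_zero fun j _ => ?_
      rw [← Finset.sum_mul, ← map_sum, ha j, map_zero, zero_mul]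
    simp only [mul_sub, Finset.sum_sub_distrib, h2, sub_zero]
    rw [← hsum]
    exact Finset.sum_congr rfl fun i _ => by rw [smul_eq_mul, ← htg i, mul_comm]
  rw [hz']
  exact Ideal.sum_mem _ fun i _ => Ideal.mul_mem_mul (Ideal.mem_map_of_mem _ (ht i)) (hd i)

/-- Elements generating a flat finite module freely at a prime. -/
theorem exists_local_basis {B M : Type u} [CommRing B] [AddCommGroup M] [Module B M] [Module.Finite B M]
    [Module.Flat B M] (q : Ideal B) [q.IsPrime] :
    ∃ (c : ℕ) (m : Fin c → M),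
      (∀ x : M, ∃ s ∉ q, s • x ∈ Submodule.span B (Set.range m)) ∧
      ∀ v : Fin c → B, ∑ k, v k • m k = 0 → ∀ k, ∃ s ∉ q, s * v k = 0 := by
  classical
  let S := q.primeCompl
  let g := LocalizedModule.mkLinearMap S M
  haveI : Module.Finite (Localization.AtPrime q) (LocalizedModule S M) := Module.Finite.of_isLocalizedModule S g
  haveI : Module.Flat (Localization.AtPrime q) (LocalizedModule S M) :=
    Module.Flat.of_isLocalizedModule (Localization.AtPrime q) S g
  haveI : Module.Free (Localization.AtPrime q) (LocalizedModule S M) := Module.free_of_flat_of_isLocalRing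
  let b := Module.finBasis (Localization.AtPrime q) (LocalizedModule S M)
  choose p hp using fun k => IsLocalizedModule.surj S g (b k)
  let m := fun k => (p k).1
  let b' := b.isUnitSMul fun k => IsLocalization.map_units (Localization.AtPrime q) (p k).2
  have hb' : ∀ k, b' k = g (m k) := fun k => by
    rw [Module.Basis.isUnitSMul_apply, algebraMap_smul]
    exact hp k
  refine ⟨_, m, fun x => ?_, fun v hv k => ?_⟩
  · obtain ⟨s, hs⟩ := IsLocalization.exist_integer_multiples_of_finite S fun k => b'.repr (g x) k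
    choose a ha using hs
    have h1 : g ((s : B) • x) = g (∑ k, a k • m k) := by
      rw [map_smul, map_sum]
      conv_lhs => rw [← b'.sum_repr (g x), Finset.smul_sum]
      refine Finset.sum_congr rfl fun k _ => ?_
      rw [map_smul, hb', ← smul_assoc, ← ha k, algebraMap_smul]
    obtain ⟨t, ht⟩ := (IsLocalizedModule.eq_iff_exists S g).mp h1
    refine ⟨(t : B) * s, mul_mem (s := S) t.2 s.2, ?_⟩
    rw [mul_smul, show (t : B) • (s : B) • x = (t : B) • ∑ k, a k • m k from ht]
    exact Submodule.smul_mem _ _ (sum_mem fun k _ => Submodule.smul_mem _ _ (Submodule.subset_span ⟨k, rfl⟩))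
  · have h1 : ∑ j, algebraMap B (Localization.AtPrime q) (v j) • b' j = 0 := by
      simp only [hb', algebraMap_smul, ← map_smul, ← map_sum, hv, map_zero]
    have h2 := Fintype.linearIndependent_iff.mp b'.linearIndependent _ h1 k
    obtain ⟨s, hs⟩ := (IsLocalization.map_eq_zero_iff S (Localization.AtPrime q) _).mp h2
    exact ⟨s, s.2, hs⟩

/-- A finitely presented ideal with flat quotient and flat conormal module is Koszul regular. -/
theorem kRegAt_of_flat_conormal {R P : Type u} [CommRing R] [CommRing P] [Algebra R P] [Algebra.Smooth R P]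
    {J : Ideal P} (hfg : J.FG) [Module.Flat R (P ⧸ J)]
    (hM : Module.Flat (P ⧸ J) J.Cotangent) (p : Ideal P) [p.IsPrime] (hJp : J ≤ p) : LCI6.KRegAt J p := by
  classical
  refine LCI6.kRegAt_of_fibRegAt (R := R) hfg p ?_
  let L := Localization.AtPrime p
  let φ := algebraMap P L
  let K := J.map φ
  let r := p.comap (algebraMap R P)
  let 𝔯 : Ideal L := LCI6.fibreMax R p
  have h𝔯 : 𝔯 = r.map (algebraMap R L) := by
    show ((r.map (algebraMap R P)).map φ) = _
    rw [Ideal.map_map, ← IsScalarTower.algebraMap_eq]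
  haveI : Module.Finite P J := Module.Finite.iff_fg.mpr hfg
  haveI : Module.Finite P J.Cotangent := Module.Finite.of_surjective J.toCotangent J.toCotangent_surjective
  haveI : Module.Finite (P ⧸ J) J.Cotangent := Module.Finite.of_restrictScalars_finite P _ _
  haveI : (p.map (Ideal.Quotient.mk J)).IsPrime :=
    Ideal.map_isPrime_of_surjective Ideal.Quotient.mk_surjective (by rwa [Ideal.mk_ker])
  obtain ⟨c, m, hgen, hind⟩ := exists_local_basis (B := P ⧸ J) (M := J.Cotangent) (p.map (Ideal.Quotient.mk J))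
  choose f hf using fun k => J.toCotangent_surjective (m k)
  have hnot : ∀ s : P, Ideal.Quotient.mk J s ∉ p.map (Ideal.Quotient.mk J) → s ∉ p := fun s hs hsp =>
    hs (Ideal.mem_map_of_mem _ hsp)
  have hunit : ∀ s : P, s ∉ p → IsUnit (φ s) := fun s hs => IsLocalization.map_units L (⟨s, hs⟩ : p.primeCompl)
  let F : Fin c → L := fun k => φ (f k)
  have hFK : ∀ k, F k ∈ K := fun k => Ideal.mem_map_of_mem _ (f k).2
  have hKm : K ≤ maximalIdeal L := by
    rw [← Localization.AtPrime.map_eq_maximalIdeal]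
    exact Ideal.map_mono hJp
  have hKfg : K.FG := hfg.map _
  have hKjac : K ≤ (⊥ : Ideal L).jacobson := hKm.trans (maximalIdeal_le_jacobson _)
  -- generation
  have hspan : K = Ideal.span (Set.range F) := by
    refine le_antisymm ?_ (Ideal.span_le.mpr (Set.range_subset_iff.mpr hFK))
    refine Submodule.le_of_le_smul_of_le_jacobson_bot hKfg hKjac ?_
    refine Ideal.map_le_iff_le_comap.mpr fun z hz => ?_
    obtain ⟨s, hs, hsz⟩ := hgen (J.toCotangent ⟨z, hz⟩)
    obtain ⟨s, rfl⟩ := Ideal.Quotient.mk_surjective s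
    obtain ⟨a, ha⟩ := (Submodule.mem_span_range_iff_exists_fun _).mp hsz
    choose a' ha' using fun k => Ideal.Quotient.mk_surjective (a k)
    have h1 : J.toCotangent (s • ⟨z, hz⟩) = J.toCotangent (∑ k, a' k • f k) := by
      simp only [map_sum, map_smul]
      rw [show s • J.toCotangent ⟨z, hz⟩ = Ideal.Quotient.mk J s • J.toCotangent ⟨z, hz⟩ from rfl, ← ha]
      exact Finset.sum_congr rfl fun k _ => by rw [hf, ← ha' k]; rfl
    have h2 := Ideal.mem_map_of_mem φ ((Ideal.toCotangent_eq J).mp h1)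
    rw [Ideal.map_pow, pow_two] at h2
    simp only [Submodule.coe_sum, Submodule.coe_smul, smul_eq_mul, map_sub, map_sum, map_mul] at h2
    rw [Ideal.mem_comap, smul_eq_mul]
    refine (Ideal.unit_mul_mem_iff_mem _ (hunit s (hnot s hs))).mp ?_
    exact Submodule.mem_sup.mpr ⟨∑ k, φ (a' k) * F k,
      sum_mem fun k _ => Ideal.mul_mem_left _ _ (Ideal.subset_span ⟨k, rfl⟩), _, h2, add_sub_cancel _ _⟩
  -- independence
  have hindL : ∀ C : Fin c → L, ∑ k, C k * F k ∈ K * K → ∀ k, C k ∈ K := by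
    intro C hC k
    obtain ⟨s, hs⟩ := IsLocalization.exist_integer_multiples_of_finite p.primeCompl C
    choose a ha using hs
    have h1 : φ (∑ k, a k * f k) ∈ (J * J).map φ := by
      rw [Ideal.map_mul, map_sum]
      have : ∑ k, φ (a k * f k) = φ s * ∑ k, C k * F k := by
        rw [Finset.mul_sum]
        refine Finset.sum_congr rfl fun k _ => ?_
        rw [map_mul, show φ (a k) = _ from ha k, Algebra.smul_def, mul_assoc]
      rw [this]
      exact Ideal.mul_mem_left _ _ hC
    obtain ⟨t, ht, hta⟩ := (IsLocalization.algebraMap_mem_map_algebraMap_iff p.primeCompl L _ _).mp h1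
    have h2 : ∑ k, Ideal.Quotient.mk J (t * a k) • m k = 0 := by
      have h3 : J.toCotangent (∑ k, (t * a k) • f k) = 0 := by
        rw [Ideal.toCotangent_eq_zero, pow_two]
        simpa [Submodule.coe_sum, Finset.mul_sum, mul_assoc] using hta
      rw [map_sum] at h3
      rw [← h3]
      exact Finset.sum_congr rfl fun k _ => by rw [map_smul, hf]; rfl
    obtain ⟨s', hs', hs'a⟩ := hind _ h2 k
    obtain ⟨s', rfl⟩ := Ideal.Quotient.mk_surjective s'
    rw [← map_mul, Ideal.Quotient.eq_zero_iff_mem] at hs'a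
    have h4 := Ideal.mem_map_of_mem φ hs'a
    rw [map_mul, map_mul, show φ (a k) = _ from ha k, Algebra.smul_def] at h4
    exact (Ideal.unit_mul_mem_iff_mem _ (hunit s s.2)).mp ((Ideal.unit_mul_mem_iff_mem _ (hunit t ht)).mp
      ((Ideal.unit_mul_mem_iff_mem _ (hunit s' (hnot s' hs'))).mp h4))
  -- the fibre is regular
  let r' : Ideal R := r
  haveI : r'.IsPrime := Ideal.IsPrime.comap _
  haveI : IsRegularRing (r'.Fiber P) := GrothLib.GeomReg.isRegularRing_of_smooth r'.ResidueField _
  let q₁ := PrimeSpectrum.preimageEquivFiber R P ⟨r', inferInstance⟩ ⟨⟨p, inferInstance⟩, rfl⟩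
  have hq₁ : q₁.asIdeal.comap Algebra.TensorProduct.includeRight.toRingHom = p :=
    congrArg (fun z => z.1.asIdeal)
      ((PrimeSpectrum.preimageEquivFiber R P ⟨r', inferInstance⟩).symm_apply_apply ⟨⟨p, inferInstance⟩, rfl⟩)
  obtain ⟨e, -⟩ := LCI6.exists_fibre_equiv r' q₁.asIdeal p hq₁
  haveI : IsRegularLocalRing (L ⧸ 𝔯) := IsRegularLocalRing.of_ringEquiv (R := Localization.AtPrime q₁.asIdeal) e
  let π := Ideal.Quotient.mk 𝔯
  let Kb := K.map π
  have hπsurj : Function.Surjective π := Ideal.Quotient.mk_surjective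
  have hKbm : Kb ≤ maximalIdeal (L ⧸ 𝔯) := by
    refine Ideal.map_le_iff_le_comap.mpr ((hKm).trans ?_)
    haveI : IsLocalHom π := isLocalHom_of_le_jacobson_bot _
      ((LCI6.fibreMax_le p).trans (maximalIdeal_le_jacobson _))
    exact fun z hz hu => hz (IsUnit.of_map π z hu)
  have hKbspan : Kb = Ideal.span (Set.range fun k => π (F k)) := by
    show K.map π = _
    rw [hspan, Ideal.map_span, ← Set.range_comp]
    rfl
  haveI : Module.Flat R (L ⧸ K) := by
    haveI : Module.Flat (P ⧸ J) (L ⧸ K) :=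
      IsLocalization.flat (L ⧸ K) (Algebra.algebraMapSubmonoid (P ⧸ J) p.primeCompl)
    haveI : IsScalarTower R (P ⧸ J) (L ⧸ K) := IsScalarTower.to₁₃₄ R P (P ⧸ J) (L ⧸ K)
    exact Module.Flat.trans R (P ⧸ J) (L ⧸ K)
  have hindb : ∀ C : Fin c → L ⧸ 𝔯, ∑ k, C k * π (F k) ∈ Kb * Kb → ∀ k, C k ∈ Kb := by
    intro C hC k
    choose C' hC' using fun k => hπsurj (C k)
    rw [show Kb * Kb = (K * K).map π from (Ideal.map_mul π K K).symm,
      Ideal.mem_map_iff_of_surjective π hπsurj] at hC
    obtain ⟨y, hy, hye⟩ := hC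
    have hdiff : ∑ k, C' k * F k - y ∈ 𝔯 ⊓ K := by
      refine ⟨Ideal.Quotient.eq_zero_iff_mem.mp ?_, sub_mem (Ideal.sum_mem _ fun k _ => Ideal.mul_mem_left _ _ (hFK k))
        (Ideal.mul_le_left hy)⟩
      show π (∑ k, C' k * F k - y) = 0
      rw [map_sub, hye, map_sum, sub_eq_zero]
      exact Finset.sum_congr rfl fun k _ => by rw [map_mul, hC']
    have hdiff' : ∑ k, C' k * F k - y ∈ 𝔯 * K := by
      rw [h𝔯] at hdiff ⊢
      exact inf_map_le_mul r K hdiff
    have hexp : ∀ z ∈ 𝔯 * K, ∃ g : Fin c → L, (∀ k, g k ∈ 𝔯) ∧ z = ∑ k, g k * F k := by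
      intro z hz
      induction hz using Submodule.mul_induction_on' with
      | mem_mul_mem a ha b hb =>
        obtain ⟨g, hg⟩ := Ideal.mem_span_range_iff_exists_fun.mp (hspan ▸ hb)
        exact ⟨fun k => a * g k, fun k => Ideal.mul_mem_right _ _ ha, by rw [← hg, Finset.mul_sum]; simp [mul_assoc]⟩
      | add a _ b _ ha hb =>
        obtain ⟨g, hg, rfl⟩ := ha
        obtain ⟨g', hg', rfl⟩ := hb
        exact ⟨g + g', fun k => add_mem (hg k) (hg' k), by simp [add_mul, Finset.sum_add_distrib]⟩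
    obtain ⟨g, hg, hge⟩ := hexp _ hdiff'
    have hmem : C' k - g k ∈ K := hindL (fun k => C' k - g k) (by
      simp only [sub_mul, Finset.sum_sub_distrib]
      rw [← hge, sub_sub_cancel]
      exact hy) k
    have := Ideal.mem_map_of_mem π hmem
    rwa [map_sub, hC', Ideal.Quotient.eq_zero_iff_mem.mpr (hg k), sub_zero] at this
  -- dual functionals
  let Φ : (Fin c → L ⧸ 𝔯) →ₗ[L ⧸ 𝔯] Kb := (Fintype.linearCombination (L ⧸ 𝔯) fun k => π (F k)).codRestrict Kb
    fun v => by
      rw [Fintype.linearCombination_apply]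
      exact Ideal.sum_mem _ fun k _ => Ideal.mul_mem_left _ _ (Ideal.mem_map_of_mem π (hFK k))
  have hΦ : Function.Surjective Φ := fun z => by
    have hz2 : (z : L ⧸ 𝔯) ∈ Ideal.span (Set.range fun k => π (F k)) := hKbspan.le z.2
    obtain ⟨v, hv⟩ := Ideal.mem_span_range_iff_exists_fun.mp hz2
    exact ⟨v, Subtype.ext (by simpa [Φ, Fintype.linearCombination_apply] using hv)⟩
  let ψ : Fin c → (Kb →ₗ[L ⧸ 𝔯] (L ⧸ 𝔯) ⧸ Kb) := fun i =>
    ((LinearMap.ker Φ).liftQ (Kb.mkQ ∘ₗ LinearMap.proj i) fun v hv => by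
      rw [LinearMap.mem_ker, LinearMap.comp_apply, Submodule.mkQ_apply, Submodule.Quotient.mk_eq_zero]
      refine hindb v ?_ i
      have h0 : (Φ v : L ⧸ 𝔯) = 0 := congrArg Subtype.val hv
      simp only [Φ, LinearMap.codRestrict_apply, Fintype.linearCombination_apply, smul_eq_mul] at h0
      rw [h0]
      exact Ideal.zero_mem _) ∘ₗ (Φ.quotKerEquivOfSurjective hΦ).symm.toLinearMap
  have hψ : ∀ i k, ψ i ⟨π (F k), Ideal.mem_map_of_mem π (hFK k)⟩ = if i = k then 1 else 0 := by
    intro i k
    have h1 : (⟨π (F k), Ideal.mem_map_of_mem π (hFK k)⟩ : Kb) = Φ (Pi.single k 1) :=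
      Subtype.ext (by simp [Φ])
    rw [h1]
    simp only [ψ, LinearMap.comp_apply, LinearEquiv.coe_coe]
    rw [show (Φ.quotKerEquivOfSurjective hΦ).symm (Φ (Pi.single k 1)) = Submodule.Quotient.mk (Pi.single k 1) from
      (LinearEquiv.symm_apply_eq _).mpr rfl, Submodule.liftQ_apply]
    by_cases hik : i = k
    · subst hik
      simp
    · simp [hik]
  obtain ⟨d, hd⟩ : ∃ d : ℕ, ringKrullDim (L ⧸ 𝔯) = d :=
    ⟨_, (IsRegularLocalRing.spanFinrank_maximalIdeal (R := L ⧸ 𝔯)).symm⟩
  have hKbne : Kb ≠ ⊤ := fun h => (maximalIdeal.isMaximal (L ⧸ 𝔯)).ne_top (top_le_iff.mp (h ▸ hKbm))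
  obtain ⟨y, hy, hw⟩ := GrothLib.Vasconcelos.exists_weaklyRegular c (L ⧸ 𝔯) Kb hKbne d
    (GrothLib.Serre.pdLE_of_isRegularLocalRing _ d hd Kb) (fun k => π (F k))
    (fun k => Ideal.mem_map_of_mem π (hFK k)) ψ hψ
  have hlift : ∀ k, ∃ j ∈ K * K, π j = y k - π (F k) := fun k => by
    have := hy k
    rwa [pow_two, show Kb * Kb = (K * K).map π from (Ideal.map_mul π K K).symm,
      Ideal.mem_map_iff_of_surjective π hπsurj] at this
  choose j hj hje using hlift
  let a : Fin c → L := fun k => F k + j k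
  have haK : ∀ k, a k ∈ K := fun k => add_mem (hFK k) (Ideal.mul_le_left (hj k))
  refine ⟨c, a, le_antisymm (Ideal.span_le.mpr (Set.range_subset_iff.mpr haK)) ?_, ?_, ?_⟩
  · refine Submodule.le_of_le_smul_of_le_jacobson_bot hKfg hKjac ?_
    rw [smul_eq_mul]
    refine hspan.le.trans (Ideal.span_le.mpr (Set.range_subset_iff.mpr fun k => ?_))
    exact Submodule.mem_sup.mpr ⟨a k, Ideal.subset_span ⟨k, rfl⟩, -j k, (K * K).neg_mem (hj k), add_neg_cancel_right (F k) (j k)⟩
  · rw [List.map_ofFn, show (Ideal.Quotient.mk (LCI6.fibreMax R p)) ∘ a = y from funext fun k => by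
      show π (F k + j k) = y k
      rw [map_add, hje, add_sub_cancel]]
    exact hw
  · intro htop
    refine hKbne (top_le_iff.mp ?_)
    rw [smul_eq_mul, Ideal.mul_top] at htop
    refine htop.le.trans (Ideal.span_le.mpr fun z hz => ?_)
    obtain ⟨z, hz', rfl⟩ := List.mem_map.mp hz
    obtain ⟨k, rfl⟩ := List.mem_ofFn.mp hz'
    exact Ideal.mem_map_of_mem π (haK k)

end GrothLib.NLAmp
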