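import Groth.Agent.Lib.NLAmp.Main
import Groth.Agent.Lib.PerfHom.Perfect
import Groth.Agent.Lib.DiagSmooth.Pd
import Groth.Agent.Lib.DCxRing.Perfect
import Groth.Agent.S2189

/-!
# Local complete intersections among algebras of finite tor dimension
-/

set_option autoImplicit false

universe u

open CategoryTheory

attribute [local instance] HasDerivedCategory.standard

namespace GrothLib.NLAmp

variable {A B : Type u} [CommRing A] [CommRing B] [Algebra A B]

/-- Finite tor dimension over the base gives finite projective dimension of the ideal of a presentation. -/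
theorem exists_projDim_ker [IsNoetherianRing A] [Algebra.FiniteType A B] (hB : DRing.HasFiniteTorDim A B)
    {n : ℕ} (α : MvPolynomial (Fin n) A →ₐ[A] B) (hα : Function.Surjective α) :
    ∃ m : ℕ, HasProjectiveDimensionLT
      (ModuleCat.of (MvPolynomial (Fin n) A) (RingHom.ker α.toRingHom)) m := by
  letI := α.toRingHom.toAlgebra
  let P := MvPolynomial (Fin n) A
  have hperf : DRing.IsPerfectModule P B :=
    GrothLib.PHom.isPerfectModule_pres ⟨GrothLib.PHom.of_noetherian, hB⟩ α hα
  obtain ⟨-, htor⟩ := GrothLib.DR.isPerfect_iff.1 hperf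
  obtain ⟨d, hd⟩ := GrothLib.DR.exists_torDim htor
  let f : P →ₗ[P] B := Algebra.linearMap P B
  have hf : Function.Surjective f := hα
  let ε : (Fin 1 → P) →ₗ[P] B := f ∘ₗ LinearMap.proj 0
  have hε : Function.Surjective ε := fun b => by
    obtain ⟨p, hp⟩ := hf b
    exact ⟨fun _ => p, hp⟩
  obtain ⟨m, hm⟩ := GrothLib.DiagSmooth.exists_pdLE_of_hasFiniteTorDim ε hε
    ⟨d, (GrothLib.KF.hasTorDimLE_iff B d).2 hd⟩
  have := (GrothLib.Serre.pdLE_succ_iff f hf m).1 (GrothLib.Serre.pdLE_mono (Nat.le_succ m) hm)
  have e : LinearMap.ker f = RingHom.ker α.toRingHom := Submodule.ext fun x => Iff.rfl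
  exact ⟨m + 1, (GrothLib.Serre.pdLE_congr (LinearEquiv.ofEq _ _ e) m).1 this⟩

/-- A finite type algebra of finite tor dimension over a Noetherian ring whose naive cotangent complex has
tor amplitude in `[-1, 0]` is LCI. -/
theorem isLCI_of_amp_of_torDim [IsNoetherianRing A] [Algebra.FiniteType A B]
    (hB : DRing.HasFiniteTorDim A B) (h : DRing.HasTorAmplitudeIn B (-1) 0 (LCI.NL A B)) : LCI.IsLCI A B := by
  haveI : Algebra.FinitePresentation A B := Algebra.FinitePresentation.of_finiteType.mp inferInstance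
  obtain ⟨n, α, hα, -⟩ := Algebra.FinitePresentation.out (R := A) (A := B)
  let E := ext α hα
  obtain ⟨e⟩ := nonempty_NL_iso α hα
  haveI : Module.Free B E.CotangentSpace :=
    Module.Free.of_basis (Algebra.Generators.ofAlgHom α hα).cotangentSpaceBasis
  haveI : Module.Flat B E.Cotangent :=
    flat_of_hasTorAmplitudeIn_two E.cotangentComplex (GrothLib.DR.hasTorAmplitudeIn_of_iso e h)
  have hJ : Module.Flat (E.Ring ⧸ E.ker) E.ker.Cotangent := flat_cotangent_of_ext E
  have hk : E.ker = RingHom.ker α.toRingHom := ker_ext α hα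
  refine ⟨inferInstance, n, α, hα, ?_⟩
  obtain ⟨m, hm⟩ := exists_projDim_ker hB α hα
  refine (LCI6.isKoszulRegularIdeal_iff _).mpr fun p _ hp => ?_
  haveI : Module.Projective (MvPolynomial (Fin n) A ⧸ RingHom.ker α.toRingHom)
      (RingHom.ker α.toRingHom).Cotangent := by
    rw [← hk]
    haveI := hJ
    haveI : IsNoetherianRing E.Ring := inferInstanceAs (IsNoetherianRing (MvPolynomial (Fin n) A))
    haveI : Module.Finite E.Ring E.ker.Cotangent :=
      Module.Finite.of_surjective E.ker.toCotangent E.ker.toCotangent_surjective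
    haveI : Module.Finite (E.Ring ⧸ E.ker) E.ker.Cotangent := Module.Finite.of_restrictScalars_finite E.Ring _ _
    haveI : Module.FinitePresentation (E.Ring ⧸ E.ker) E.ker.Cotangent := Module.finitePresentation_of_finite _ _
    exact Module.Flat.projective_of_finitePresentation (R := E.Ring ⧸ E.ker) (M := E.ker.Cotangent)
  obtain ⟨g, hg, rs, hrs, hI⟩ := Groth.Agent.S2189.result _ m hm p hp
  exact ⟨g, hg, rs, GrothLib.KoszulFwd.isKoszulRegularSeq_of_isWeaklyRegular rs hrs.toIsWeaklyRegular, hI.symm⟩

end GrothLib.NLAmp
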