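import Groth.Agent.Lib.NLAmp.Main
import Mathlib.Algebra.Homology.DerivedCategory.Linear
import Mathlib.Algebra.Homology.DerivedCategory.Ext.Basic
import Mathlib.CategoryTheory.Abelian.Projective.Dimension

/-!
# The Jacobian determinant kills maps out of the naive cotangent complex
-/

set_option autoImplicit false

universe u

open CategoryTheory Limits HomologicalComplex

attribute [local instance] HasDerivedCategory.standard

namespace GrothLib.NLAmp

section General

variable {A : Type u} [CommRing A] {M F : Type u} [AddCommGroup M] [Module A M] [AddCommGroup F] [Module A F]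

/-- A map `s` with `s ∘ f = g` makes multiplication by `g` factor through the degree zero term. -/
theorem exists_smul_factor (f : M →ₗ[A] F) (s : F →ₗ[A] M) (g : A) (hs : s.comp f = g • LinearMap.id) :
    ∃ (π : DRing.toD (two f) ⟶ Dual.inD A F) (ι : Dual.inD A F ⟶ DRing.toD (two f)),
      g • 𝟙 (DRing.toD (two f)) = π ≫ ι ∧ (f.comp s = g • LinearMap.id → π = 0) := by
  let e : DRing.toD ((HomologicalComplex.single (ModuleCat.{u} A) (ComplexShape.up ℤ) 0).obj (ModuleCat.of A F)) ≅
      Dual.inD A F := ((DerivedCategory.singleFunctorIsoCompQ (ModuleCat.{u} A) 0).app (ModuleCat.of A F)).symm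
  let w : F →ₗ[A] F := g • LinearMap.id - f.comp s
  let x₀ := doubleXIso₀ (ModuleCat.ofHom f) rel_neg_one
  let x₁ := doubleXIso₁ (ModuleCat.ofHom f) rel_neg_one neg_one_ne
  have hw : w.comp f = 0 := LinearMap.ext fun m => by
    have := LinearMap.congr_fun hs m
    simp [w] at this ⊢
    rw [this, map_smul, sub_self]
  let p : two f ⟶ (HomologicalComplex.single (ModuleCat.{u} A) (ComplexShape.up ℤ) 0).obj (ModuleCat.of A F) :=
    mkHomToSingle (x₁.hom ≫ ModuleCat.ofHom w) fun i hi => by
      obtain rfl : i = -1 := by simp at hi; omega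
      rw [double_d (ModuleCat.ofHom f) rel_neg_one neg_one_ne]
      simp only [x₁, Category.assoc, Iso.inv_hom_id_assoc]
      rw [← ModuleCat.ofHom_comp, hw]
      simp
  let q : (HomologicalComplex.single (ModuleCat.{u} A) (ComplexShape.up ℤ) 0).obj (ModuleCat.of A F) ⟶ two f :=
    mkHomFromSingle x₁.inv fun j _ => by rw [double_d_eq_zero₀ _ _ _ _ (Ne.symm neg_one_ne), comp_zero]
  refine ⟨DerivedCategory.Q.map p ≫ e.hom, e.inv ≫ DerivedCategory.Q.map q, ?_, fun hfs => ?_⟩
  · let H : ∀ i j : ℤ, (two f).X i ⟶ (two f).X j := fun i j =>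
      if h : i = 0 ∧ j = -1 then
        eqToHom (by rw [h.1]) ≫ x₁.hom ≫ ModuleCat.ofHom s ≫ x₀.inv ≫ eqToHom (by rw [h.2])
      else 0
    let hom : Homotopy (g • 𝟙 (two f)) (p ≫ q) :=
      { hom := H
        zero := fun i j hij => dif_neg fun h => hij (by obtain ⟨rfl, rfl⟩ := h; simp)
        comm := fun i => by
          have hn : dNext i H = (two f).d i (i + 1) ≫ H (i + 1) i := dNext_eq H (by simp)
          have hp : prevD i H = H i (i - 1) ≫ (two f).d (i - 1) i := prevD_eq H (by simp)
          rw [hn, hp]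
          by_cases h₀ : i = -1
          · subst h₀
            rw [show H (-1) (-1 - 1) = 0 from dif_neg (by omega), zero_comp, add_zero,
              show H (-1 + 1) (-1) = x₁.hom ≫ ModuleCat.ofHom s ≫ x₀.inv from by simp [H]]
            show g • 𝟙 _ = (two f).d (-1) 0 ≫ _ + p.f (-1) ≫ q.f (-1)
            rw [double_d (ModuleCat.ofHom f) rel_neg_one neg_one_ne,
              (isZero_single_obj_X (ComplexShape.up ℤ) 0 (ModuleCat.of A F) (-1) neg_one_ne).eq_of_tgt (p.f (-1)) 0,
              zero_comp, add_zero]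
            simp only [x₀, x₁, Category.assoc, Iso.inv_hom_id_assoc]
            rw [← Category.assoc (ModuleCat.ofHom f), ← ModuleCat.ofHom_comp, hs,
              show ModuleCat.ofHom (g • (LinearMap.id : M →ₗ[A] M)) = g • 𝟙 (ModuleCat.of A M) from rfl,
              Linear.smul_comp, Category.id_comp, Linear.comp_smul, Iso.hom_inv_id]
          by_cases h₁ : i = 0
          · subst h₁
            rw [show H (0 + 1) 0 = 0 from dif_neg (by omega), comp_zero, zero_add,
              show H 0 (0 - 1) = x₁.hom ≫ ModuleCat.ofHom s ≫ x₀.inv from by simp [H]]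
            show g • 𝟙 _ = _ ≫ (two f).d (-1) 0 + p.f 0 ≫ q.f 0
            rw [double_d (ModuleCat.ofHom f) rel_neg_one neg_one_ne, mkHomToSingle_f, mkHomFromSingle_f]
            simp only [x₀, x₁, Category.assoc, Iso.inv_hom_id_assoc]
            rw [← Category.assoc (ModuleCat.ofHom s), ← ModuleCat.ofHom_comp, ← Preadditive.comp_add,
              ← Preadditive.add_comp,
              show ModuleCat.ofHom (f.comp s) + ModuleCat.ofHom w = g • 𝟙 (ModuleCat.of A F) from
                ModuleCat.hom_ext (add_sub_cancel (f.comp s) (g • LinearMap.id)),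
              Linear.smul_comp, Category.id_comp, Linear.comp_smul, Iso.hom_inv_id]
          exact (isZero_double_X _ _ i h₀ h₁).eq_of_src _ _ }
    have hQ := DerivedCategory.Q_map_eq_of_homotopy _ hom
    rw [Functor.map_smul, CategoryTheory.Functor.map_id, Functor.map_comp] at hQ
    rw [Category.assoc, Iso.hom_inv_id_assoc]
    exact hQ
  · have : p = 0 := by
      apply HomologicalComplex.to_single_hom_ext
      rw [mkHomToSingle_f]
      simp [w, hfs]
    rw [this, Functor.map_zero, zero_comp]

/-- Morphisms out of `F[0]` into a shifted module vanish for a projective module `F`. -/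
theorem hom_inD_shift_eq_zero [Module.Projective A F] (N : Type u) [AddCommGroup N] [Module A N]
    (φ : Dual.inD A F ⟶ (Dual.inD A N)⟦(1 : ℤ)⟧) : φ = 0 := by
  haveI : Projective (ModuleCat.of A F) := (IsProjective.iff_projective _).1 ‹_›
  let E : CategoryTheory.Abelian.Ext.{u} (ModuleCat.of A F) (ModuleCat.of A N) 1 ≃
      ShiftedHom (Dual.inD A F) (Dual.inD A N) ((1 : ℕ) : ℤ) := CategoryTheory.Abelian.Ext.homEquiv
  have hs : Subsingleton (CategoryTheory.Abelian.Ext.{u} (ModuleCat.of A F) (ModuleCat.of A N) 1) :=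
    HasProjectiveDimensionLT.subsingleton (ModuleCat.of A F) 1 1 le_rfl _
  haveI := E.symm.subsingleton
  exact Subsingleton.elim (α := ShiftedHom (Dual.inD A F) (Dual.inD A N) ((1 : ℕ) : ℤ)) φ 0

theorem smul_hom_eq_zero {K : Dual.D A} (f : M →ₗ[A] F) (e : K ≅ DRing.toD (two f)) (s : F →ₗ[A] M) (g : A)
    (hs : s.comp f = g • LinearMap.id) :
    (Module.Projective A F → ∀ (N : Type u) [AddCommGroup N] [Module A N]
      (φ : K ⟶ (Dual.inD A N)⟦(1 : ℤ)⟧), g • φ = 0) ∧
    (f.comp s = g • LinearMap.id → g • 𝟙 K = 0) := by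
  obtain ⟨π, ι, h, h'⟩ := exists_smul_factor f s g hs
  have hK : g • 𝟙 K = e.hom ≫ (π ≫ ι) ≫ e.inv := by
    rw [← h, Linear.smul_comp, Category.id_comp, Linear.comp_smul, Iso.hom_inv_id]
  refine ⟨fun _ N _ _ φ => ?_, fun hfs => by rw [hK, h' hfs]; simp⟩
  rw [show g • φ = (g • 𝟙 K) ≫ φ by rw [Linear.smul_comp, Category.id_comp], hK]
  simp only [Category.assoc]
  rw [hom_inD_shift_eq_zero N (ι ≫ e.inv ≫ φ), comp_zero, comp_zero]

end General

section Jacobian

variable (A : Type u) [CommRing A] (n m : ℕ) (hmn : m ≤ n) (f : Fin m → MvPolynomial (Fin n) A)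

/-- The adjugate of the leading Jacobian minor is a partial inverse of the cotangent complex. -/
theorem exists_adjugate_section :
    ∃ s : (ext (Ideal.Quotient.mkₐ A (Ideal.span (Set.range f))) (Ideal.Quotient.mkₐ_surjective A _)).CotangentSpace
        →ₗ[MvPolynomial (Fin n) A ⧸ Ideal.span (Set.range f)]
        (ext (Ideal.Quotient.mkₐ A (Ideal.span (Set.range f))) (Ideal.Quotient.mkₐ_surjective A _)).Cotangent,
      s.comp (ext (Ideal.Quotient.mkₐ A (Ideal.span (Set.range f)))
          (Ideal.Quotient.mkₐ_surjective A _)).cotangentComplex =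
        (Ideal.Quotient.mk (Ideal.span (Set.range f))
          (Matrix.of fun i j : Fin m => MvPolynomial.pderiv (Fin.castLE hmn i) (f j)).det) • LinearMap.id ∧
      (n = m → (ext (Ideal.Quotient.mkₐ A (Ideal.span (Set.range f)))
          (Ideal.Quotient.mkₐ_surjective A _)).cotangentComplex.comp s =
        (Ideal.Quotient.mk (Ideal.span (Set.range f))
          (Matrix.of fun i j : Fin m => MvPolynomial.pderiv (Fin.castLE hmn i) (f j)).det) • LinearMap.id) := by
  classical
  let I := Ideal.span (Set.range f)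
  let α := Ideal.Quotient.mkₐ A I
  let G := Algebra.Generators.ofAlgHom α (Ideal.Quotient.mkₐ_surjective A _)
  let E := ext α (Ideal.Quotient.mkₐ_surjective A _)
  let b := G.cotangentSpaceBasis
  have hker : ∀ x : MvPolynomial (Fin n) A, x ∈ E.ker ↔ x ∈ I := fun x => by
    rw [ker_ext]
    exact Ideal.Quotient.eq_zero_iff_mem
  have halg : ∀ x : E.Ring, algebraMap E.Ring (MvPolynomial (Fin n) A ⧸ I) x = Ideal.Quotient.mk I x := fun x => by
    show algebraMap G.Ring (MvPolynomial (Fin n) A ⧸ I) x = _
    rw [Algebra.Generators.algebraMap_eq,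
      show MvPolynomial.aeval G.val = α by ext; simp [G, Algebra.Generators.ofAlgHom]]
    rfl
  let c : Fin m → E.Cotangent := fun j =>
    Algebra.Extension.Cotangent.mk ⟨f j, (hker _).2 (Ideal.subset_span ⟨j, rfl⟩)⟩
  let J : Matrix (Fin m) (Fin m) (MvPolynomial (Fin n) A ⧸ I) :=
    (Matrix.of fun i j : Fin m => MvPolynomial.pderiv (Fin.castLE hmn i) (f j)).map (Ideal.Quotient.mk I)
  have hdet : Ideal.Quotient.mk (Ideal.span (Set.range f))
      (Matrix.of fun i j : Fin m => MvPolynomial.pderiv (Fin.castLE hmn i) (f j)).det = J.det :=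
    RingHom.map_det _ _
  let v : Fin n → E.Cotangent := fun i =>
    if h : (i : ℕ) < m then ∑ j, J.adjugate j ⟨i, h⟩ • c j else 0
  let s := b.constr (MvPolynomial (Fin n) A ⧸ I) v
  have hd : ∀ k i, b.repr (E.cotangentComplex (c k)) i = Ideal.Quotient.mk I (MvPolynomial.pderiv i (f k)) :=
    fun k i => by
      rw [Algebra.Extension.cotangentComplex_mk]
      refine (G.cotangentSpaceBasis_repr_tmul 1 (f k) i).trans ?_
      rw [one_mul, show MvPolynomial.aeval G.val = α by ext; simp [G, Algebra.Generators.ofAlgHom]]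
      rfl
  have hv : ∀ i : Fin m, v (Fin.castLE hmn i) = ∑ j, J.adjugate j i • c j := fun i => by
    simp [v]
  refine ⟨s, ?_, fun hnm => ?_⟩
  · have hsc : ∀ k, s (E.cotangentComplex (c k)) = J.det • c k := fun k => by
      rw [show s (E.cotangentComplex (c k)) = ∑ i, b.repr (E.cotangentComplex (c k)) i • v i from
        b.constr_apply_fintype _ _ _]
      rw [← Fintype.sum_of_injective (Fin.castLE hmn) (Fin.castLE_injective hmn)
        (fun i => J i k • v (Fin.castLE hmn i)) _ (fun i hi => ?_) (fun i => ?_)]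
      · simp only [hv, Finset.smul_sum, smul_smul]
        rw [Finset.sum_comm]
        simp only [← Finset.sum_smul]
        have hJ : ∀ j, ∑ i, J i k * J.adjugate j i = if j = k then J.det else 0 := fun j => by
          have := congrFun (congrFun J.adjugate_mul j) k
          simp only [Matrix.mul_apply, Matrix.smul_apply, Matrix.one_apply, smul_eq_mul, mul_ite, mul_one,
            mul_zero] at this
          rw [← this]
          exact Finset.sum_congr rfl fun i _ => mul_comm _ _
        rw [Finset.sum_eq_single k (fun j _ hj => by rw [hJ, if_neg hj]; exact zero_smul (MvPolynomial (Fin n) A ⧸ I) (c j))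
          (by simp), hJ, if_pos rfl]
      · rw [show v i = 0 from dif_neg fun h => hi ⟨⟨i, h⟩, rfl⟩, smul_zero]
      · rw [hd]
        rfl
    refine LinearMap.ext fun x => ?_
    obtain ⟨⟨p, hp⟩, rfl⟩ := Algebra.Extension.Cotangent.mk_surjective x
    obtain ⟨a, ha⟩ := Ideal.mem_span_range_iff_exists_fun.mp ((hker p).1 hp)
    have hsum : Algebra.Extension.Cotangent.mk (⟨p, hp⟩ : E.ker) = ∑ j, Ideal.Quotient.mk I (a j) • c j := by
      let c' : Fin m → E.ker := fun j => ⟨f j, (hker _).2 (Ideal.subset_span ⟨j, rfl⟩)⟩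
      let a' : Fin m → E.Ring := a
      have hp' : (⟨p, hp⟩ : E.ker) = ∑ j, a' j • c' j := Subtype.ext (by
        rw [AddSubmonoidClass.coe_finsetSum]
        exact ha.symm)
      rw [hp', map_sum]
      refine Finset.sum_congr rfl fun j _ => ?_
      rw [map_smul, ← algebraMap_smul (R := E.Ring) (MvPolynomial (Fin n) A ⧸ I) (a' j), halg]
    rw [hdet]
    show s (E.cotangentComplex (Algebra.Extension.Cotangent.mk (⟨p, hp⟩ : E.ker))) =
      J.det • Algebra.Extension.Cotangent.mk (⟨p, hp⟩ : E.ker)
    rw [hsum]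
    simp only [map_sum, map_smul, Finset.smul_sum, hsc]
    exact Finset.sum_congr rfl fun j _ => smul_comm _ _ _
  · subst hnm
    refine b.ext fun i => ?_
    refine b.repr.injective (Finsupp.ext fun l => ?_)
    rw [hdet]
    show b.repr (E.cotangentComplex (s (b i))) l = b.repr (J.det • b i) l
    rw [show s (b i) = v i from b.constr_basis _ _ _, show v i = ∑ j, J.adjugate j i • c j from hv i, map_sum,
      map_sum, map_smul]
    simp only [map_smul, Finsupp.coe_finsetSum, Finset.sum_apply, Finsupp.coe_smul, Pi.smul_apply, hd, smul_eq_mul,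
      b.repr_self, Finsupp.single_apply, mul_ite, mul_one, mul_zero]
    have := congrFun (congrFun J.mul_adjugate l) i
    simp only [Matrix.mul_apply, Matrix.smul_apply, Matrix.one_apply, smul_eq_mul, mul_ite, mul_one,
      mul_zero] at this
    rw [show (if i = l then J.det else 0) = if l = i then J.det else 0 by simp only [eq_comm]]
    rw [← this]
    exact Finset.sum_congr rfl fun j _ => mul_comm _ _

theorem jacobian_det_smul_eq_zero :
    (∀ (N : Type u) [AddCommGroup N] [Module (MvPolynomial (Fin n) A ⧸ Ideal.span (Set.range f)) N]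
      (φ : LCI.NL A (MvPolynomial (Fin n) A ⧸ Ideal.span (Set.range f)) ⟶
        (Dual.inD (MvPolynomial (Fin n) A ⧸ Ideal.span (Set.range f)) N)⟦(1 : ℤ)⟧),
      (Ideal.Quotient.mk (Ideal.span (Set.range f))
        (Matrix.det (Matrix.of (fun i j : Fin m => MvPolynomial.pderiv (Fin.castLE hmn i) (f j))))) • φ = 0) ∧
    (n = m → (Ideal.Quotient.mk (Ideal.span (Set.range f))
        (Matrix.det (Matrix.of (fun i j : Fin m => MvPolynomial.pderiv (Fin.castLE hmn i) (f j))))) •
      𝟙 (LCI.NL A (MvPolynomial (Fin n) A ⧸ Ideal.span (Set.range f))) = 0) := by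
  obtain ⟨s, hs, hs'⟩ := exists_adjugate_section A n m hmn f
  obtain ⟨e⟩ := nonempty_NL_iso (Ideal.Quotient.mkₐ A (Ideal.span (Set.range f)))
    (Ideal.Quotient.mkₐ_surjective A _)
  have h := smul_hom_eq_zero _ e s _ hs
  haveI := Module.Free.of_basis (Algebra.Generators.ofAlgHom (Ideal.Quotient.mkₐ A (Ideal.span (Set.range f)))
    (Ideal.Quotient.mkₐ_surjective A _)).cotangentSpaceBasis
  exact ⟨h.1 inferInstance, fun hnm => h.2 (hs' hnm)⟩

end Jacobian

end GrothLib.NLAmp
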