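import Groth.Agent.Lib.NLAmp.Two
import Groth.Agent.Lib.NLAmp.Fibre
import Groth.Agent.Lib.RelGCIReg.Conormal
import Groth.Agent.Lib.LCI6.LCI
import Groth.Agent.Lib.LCI6.Syntomic

/-!
# Tor amplitude of the naive cotangent complex
-/

set_option autoImplicit false

universe u

open CategoryTheory

attribute [local instance] HasDerivedCategory.standard

namespace GrothLib.NLAmp

variable {A B : Type u} [CommRing A] [CommRing B] [Algebra A B]

/-- The extension of a finite presentation. -/
noncomputable abbrev ext {n : ℕ} (α : MvPolynomial (Fin n) A →ₐ[A] B) (hα : Function.Surjective α) :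
    Algebra.Extension.{u} A B :=
  (Algebra.Generators.ofAlgHom α hα).toExtension

theorem ker_ext {n : ℕ} (α : MvPolynomial (Fin n) A →ₐ[A] B) (hα : Function.Surjective α) :
    (ext α hα).ker = RingHom.ker α.toRingHom := by
  show RingHom.ker (algebraMap (Algebra.Generators.ofAlgHom α hα).Ring B) = _
  rw [Algebra.Generators.algebraMap_eq,
    show MvPolynomial.aeval (Algebra.Generators.ofAlgHom α hα).val = α by ext; simp [Algebra.Generators.ofAlgHom]]
  rfl

/-- The naive cotangent complex may be computed by any finite presentation. -/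
theorem nonempty_NL_iso {n : ℕ} (α : MvPolynomial (Fin n) A →ₐ[A] B) (hα : Function.Surjective α) :
    Nonempty (LCI.NL A B ≅ DRing.toD (two (ext α hα).cotangentComplex)) := by
  let P₀ := (Algebra.Generators.self A B).toExtension
  let P₁ := ext α hα
  let f : P₀.Hom P₁ := Algebra.Extension.defaultHom (P := P₁)
  let g : P₁.Hom P₀ :=
    ((Algebra.Generators.ofAlgHom α hα).defaultHom (Algebra.Generators.self A B)).toExtensionHom
  refine nonempty_toD_iso P₀.cotangentComplex P₁.cotangentComplex (Algebra.Extension.Cotangent.map f)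
    (Algebra.Extension.CotangentSpace.map f) (Algebra.Extension.Cotangent.map g)
    (Algebra.Extension.CotangentSpace.map g)
    (LinearMap.ext fun x => (Algebra.Extension.CotangentSpace.map_cotangentComplex f x).symm)
    (LinearMap.ext fun x => (Algebra.Extension.CotangentSpace.map_cotangentComplex g x).symm)
    ((g.comp f).sub (.id P₀)) ?_ ?_ ((f.comp g).sub (.id P₁)) ?_ ?_
  · rw [← Algebra.Extension.Cotangent.map_sub_map, Algebra.Extension.Cotangent.map_id]
    refine LinearMap.ext fun x => ?_
    simp [Algebra.Extension.Cotangent.map_comp]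
  · have h := Algebra.Extension.CotangentSpace.map_sub_map (g.comp f) (.id P₀)
    rw [Algebra.Extension.CotangentSpace.map_id] at h
    refine LinearMap.ext fun x => ?_
    have h' := LinearMap.congr_fun h x
    simp only [LinearMap.sub_apply, LinearMap.id_apply, LinearMap.comp_apply, LinearMap.add_apply,
      LinearMap.coe_restrictScalars, Algebra.Extension.CotangentSpace.map_comp_apply] at h' ⊢
    rw [← h', add_sub_cancel]
  · rw [← Algebra.Extension.Cotangent.map_sub_map, Algebra.Extension.Cotangent.map_id]
    refine LinearMap.ext fun x => ?_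
    simp [Algebra.Extension.Cotangent.map_comp]
  · have h := Algebra.Extension.CotangentSpace.map_sub_map (f.comp g) (.id P₁)
    rw [Algebra.Extension.CotangentSpace.map_id] at h
    refine LinearMap.ext fun x => ?_
    have h' := LinearMap.congr_fun h x
    simp only [LinearMap.sub_apply, LinearMap.id_apply, LinearMap.comp_apply, LinearMap.add_apply,
      LinearMap.coe_restrictScalars, Algebra.Extension.CotangentSpace.map_comp_apply] at h' ⊢
    rw [← h', add_sub_cancel]

/-- Flatness along a semilinear equivalence. -/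
theorem flat_of_semilinear {S T : Type u} [CommRing S] [CommRing T] (e : S ≃+* T) {M N : Type u} [AddCommGroup M]
    [Module S M] [AddCommGroup N] [Module T N] (ε : N ≃+ M) (hε : ∀ (s : S) (x : N), ε (e s • x) = s • ε x)
    [Module.Flat T N] : Module.Flat S M := by
  letI : Algebra S T := e.toRingHom.toAlgebra
  letI : Module S N := Module.compHom N e.toRingHom
  haveI : IsScalarTower S T N := ⟨fun s t x => by
    show (e s * t) • x = e s • t • x
    rw [mul_smul]⟩
  haveI : Module.Flat S T := RingHom.Flat.of_bijective (f := e.toRingHom) e.bijective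
  haveI : Module.Flat S N := Module.Flat.trans S T N
  exact Module.Flat.of_linearEquiv
    ({ ε with map_smul' := fun s x => hε s x } : N ≃ₗ[S] M).symm

/-- Projectivity along a semilinear equivalence. -/
theorem projective_of_semilinear {S T : Type u} [CommRing S] [CommRing T] (e : S ≃+* T) {M N : Type u}
    [AddCommGroup M] [Module S M] [AddCommGroup N] [Module T N] (ε : M ≃+ N)
    (hε : ∀ (s : S) (x : M), ε (s • x) = e s • ε x) [Module.Projective S M] : Module.Projective T N := by
  letI := RingHomInvPair.of_ringEquiv e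
  letI := RingHomInvPair.of_ringEquiv e.symm
  exact Module.Projective.of_equiv (R := S) (S := T)
    ({ ε with map_smul' := fun s x => hε s x } : M ≃ₛₗ[(e : S →+* T)] N)

/-- The quotient by the kernel of an extension. -/
noncomputable def quotKer (E : Algebra.Extension.{u} A B) : (E.Ring ⧸ E.ker) ≃+* B :=
  RingHom.quotientKerEquivOfSurjective E.algebraMap_surjective

theorem flat_cotangent_of_ext (E : Algebra.Extension.{u} A B) [Module.Flat B E.Cotangent] :
    Module.Flat (E.Ring ⧸ E.ker) E.ker.Cotangent := by
  refine flat_of_semilinear (quotKer E) (E.cotangentEquivCotangentKer.toAddEquiv) fun s x => ?_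
  obtain ⟨p, rfl⟩ := Ideal.Quotient.mk_surjective s
  rw [show quotKer E (Ideal.Quotient.mk E.ker p) = algebraMap E.Ring B p from rfl, algebraMap_smul]
  exact E.cotangentEquivCotangentKer.map_smul p x

/-- The conormal module of a Koszul regular presentation is projective. -/
theorem projective_cotangent_of_koszul {P : Type u} [CommRing P] (J : Ideal P)
    (hJ : LCI.IsKoszulRegularIdeal J) : Module.Projective (P ⧸ J) J.Cotangent := by
  refine RelGCIReg.projective_of_local_basis fun M hM => ?_
  haveI := hM.isPrime
  have hle : J ≤ M.comap (Ideal.Quotient.mk J) := fun z hz => by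
    rw [Ideal.mem_comap, Ideal.Quotient.eq_zero_iff_mem.mpr hz]
    exact M.zero_mem
  have hk := (LCI6.isKoszulRegularIdeal_iff J).mp hJ (M.comap (Ideal.Quotient.mk J)) inferInstance hle
  obtain ⟨g, r, x, hg, hxJ, hx, hgen⟩ := hk.exists_fin
  let Pg := Localization.Away g
  let xg : Fin r → Pg := fun i => algebraMap P Pg (x i)
  let v : Fin r → J.Cotangent := fun i => J.toCotangent ⟨x i, hxJ i⟩
  let l : (Fin r → P ⧸ J) →ₗ[P ⧸ J] J.Cotangent := Fintype.linearCombination (P ⧸ J) v
  refine ⟨Ideal.Quotient.mk J g, r, l, hg, fun w hw => ?_, fun y => ?_⟩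
  · choose b hb using fun i => Ideal.Quotient.mk_surjective (w i)
    have hsum : J.toCotangent (∑ i, b i • (⟨x i, hxJ i⟩ : J)) = 0 := by
      rw [map_sum, ← hw, show l w = ∑ i, w i • v i from Fintype.linearCombination_apply _ _ _]
      refine Finset.sum_congr rfl fun i _ => ?_
      rw [map_smul, ← hb i]
      rfl
    rw [Ideal.toCotangent_eq_zero, AddSubmonoidClass.coe_finsetSum, pow_two] at hsum
    have hsum' : ∑ i, b i * x i ∈ J * J := by simpa using hsum
    have hg' := Ideal.mem_map_of_mem (algebraMap P Pg) hsum'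
    rw [Ideal.map_mul, map_sum, hgen] at hg'
    simp only [map_mul] at hg'
    have hb' : ∀ i, algebraMap P Pg (b i) ∈ J.map (algebraMap P Pg) := fun i => by
      rw [hgen]
      exact RelGCIReg.mem_of_sum_mul_mem_sq xg (LCI6.isH1Regular_ofFn xg hx) _ hg' i
    have hpow : ∀ i, ∃ k : ℕ, g ^ k * b i ∈ J := fun i => by
      obtain ⟨_, ⟨k, rfl⟩, hk⟩ :=
        (IsLocalization.algebraMap_mem_map_algebraMap_iff (Submonoid.powers g) Pg J (b i)).mp (hb' i)
      exact ⟨k, hk⟩
    choose k hk using hpow
    refine ⟨∑ i, k i, funext fun i => ?_⟩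
    rw [Pi.smul_apply, smul_eq_mul, ← hb i, ← map_pow, ← map_mul]
    refine Ideal.Quotient.eq_zero_iff_mem.mpr ?_
    rw [← Finset.add_sum_erase Finset.univ k (Finset.mem_univ i), pow_add, mul_right_comm]
    exact Ideal.mul_mem_right _ _ (hk i)
  · obtain ⟨⟨z, hz⟩, rfl⟩ := J.toCotangent_surjective y
    have hz' : algebraMap P Pg z ∈ (Ideal.span (Set.range x)).map (algebraMap P Pg) := by
      rw [Ideal.map_span, ← Set.range_comp]
      exact hgen ▸ Ideal.mem_map_of_mem _ hz
    obtain ⟨_, ⟨k, rfl⟩, hk⟩ :=
      (IsLocalization.algebraMap_mem_map_algebraMap_iff (Submonoid.powers g) Pg _ z).mp hz'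
    obtain ⟨b, hb⟩ := Ideal.mem_span_range_iff_exists_fun.mp hk
    refine ⟨k, fun i => Ideal.Quotient.mk J (b i), ?_⟩
    rw [show l (fun i => Ideal.Quotient.mk J (b i)) = ∑ i, Ideal.Quotient.mk J (b i) • v i from
      Fintype.linearCombination_apply _ _ _]
    have : J.toCotangent ((g ^ k) • (⟨z, hz⟩ : J)) = J.toCotangent (∑ i, b i • ⟨x i, hxJ i⟩) :=
      congrArg J.toCotangent (Subtype.ext (by simp [hb]))
    rw [map_smul, map_sum] at this
    rw [← map_pow]
    refine (Eq.trans ?_ this.symm)
    exact Finset.sum_congr rfl fun i _ => by rw [map_smul]; rfl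

/-- The naive cotangent complex of an LCI algebra is perfect of tor amplitude in `[-1, 0]`. -/
theorem perfect_and_amp_of_isLCI (h : LCI.IsLCI A B) :
    DRing.IsPerfect B (LCI.NL A B) ∧ DRing.HasTorAmplitudeIn B (-1) 0 (LCI.NL A B) := by
  obtain ⟨-, n, α, hα, hI⟩ := h
  let E := ext α hα
  obtain ⟨e⟩ := nonempty_NL_iso α hα
  have hker : LCI.IsKoszulRegularIdeal E.ker := by rw [ker_ext]; exact hI
  have hfg : E.ker.FG := LCI6.fg_of_isKoszulRegularIdeal hker
  haveI : Module.Finite E.Ring E.ker := Module.Finite.iff_fg.mpr hfg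
  haveI : Module.Finite E.Ring E.Cotangent :=
    Module.Finite.of_surjective Algebra.Extension.Cotangent.mk Algebra.Extension.Cotangent.mk_surjective
  haveI : Module.Finite B E.Cotangent := Module.Finite.of_restrictScalars_finite E.Ring _ _
  haveI := projective_cotangent_of_koszul E.ker hker
  haveI : Module.Projective B E.Cotangent := by
    refine projective_of_semilinear (quotKer E) E.cotangentEquivCotangentKer.symm.toAddEquiv fun s x => ?_
    obtain ⟨p, rfl⟩ := Ideal.Quotient.mk_surjective s
    rw [show quotKer E (Ideal.Quotient.mk E.ker p) = algebraMap E.Ring B p from rfl, algebraMap_smul]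
    exact E.cotangentEquivCotangentKer.symm.map_smul p x
  let b := (Algebra.Generators.ofAlgHom α hα).cotangentSpaceBasis
  haveI : Module.Finite B E.CotangentSpace := Module.Finite.of_basis b
  haveI : Module.Free B E.CotangentSpace := Module.Free.of_basis b
  exact ⟨⟨two E.cotangentComplex, -1, 0, vanishesOutside_two _, termwiseFiniteProjective_two _, ⟨e.symm⟩⟩,
    ⟨two E.cotangentComplex, vanishesOutside_two _, termwiseFlat_two _, ⟨e.symm⟩⟩⟩

/-- A flat finitely presented algebra whose naive cotangent complex has tor amplitude in `[-1, 0]` is LCI. -/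
theorem isLCI_of_amp [Module.Flat A B] [Algebra.FinitePresentation A B]
    (h : DRing.HasTorAmplitudeIn B (-1) 0 (LCI.NL A B)) : LCI.IsLCI A B := by
  obtain ⟨n, α, hα, hfg⟩ := Algebra.FinitePresentation.out (R := A) (A := B)
  let E := ext α hα
  obtain ⟨e⟩ := nonempty_NL_iso α hα
  haveI : Module.Free B E.CotangentSpace :=
    Module.Free.of_basis (Algebra.Generators.ofAlgHom α hα).cotangentSpaceBasis
  haveI : Module.Flat B E.Cotangent :=
    flat_of_hasTorAmplitudeIn_two E.cotangentComplex (GrothLib.DR.hasTorAmplitudeIn_of_iso e h)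
  have hJ : Module.Flat (E.Ring ⧸ E.ker) E.ker.Cotangent := flat_cotangent_of_ext E
  have hk : RingHom.ker α.toRingHom = E.ker := (ker_ext α hα).symm
  refine ⟨inferInstance, n, α, hα, ?_⟩
  rw [hk]
  refine (LCI6.isKoszulRegularIdeal_iff _).mpr fun p _ hp => ?_
  haveI : Module.Flat A (MvPolynomial (Fin n) A ⧸ RingHom.ker α.toRingHom) :=
    Module.Flat.of_linearEquiv (Ideal.quotientKerAlgEquivOfSurjective hα).toLinearEquiv
  haveI : Module.Flat A (MvPolynomial (Fin n) A ⧸ (E.ker : Ideal (MvPolynomial (Fin n) A))) :=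
    Module.Flat.of_linearEquiv (Ideal.quotientEquivAlgOfEq A hk).symm.toLinearEquiv
  haveI : Algebra.Smooth A (MvPolynomial (Fin n) A) := ⟨inferInstance, inferInstance⟩
  rw [← hk] at hp ⊢
  refine kRegAt_of_flat_conormal (R := A) (P := MvPolynomial (Fin n) A) (J := RingHom.ker α.toRingHom) hfg ?_ p hp
  rw [hk]
  exact hJ

end GrothLib.NLAmp
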