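import Groth.Agent.Lib.DCxRing.Amplitude
import Groth.Agent.Lib.DCxRing.PerfectModule
import Mathlib.Algebra.Homology.Double
import Mathlib.Algebra.Homology.DerivedCategory.ShortExact
import Mathlib.Algebra.Homology.HomologicalComplexAbelian
import Mathlib.Algebra.Homology.QuasiIso

/-!
# Two-term complexes
-/

set_option autoImplicit false

universe u

open CategoryTheory Limits HomologicalComplex

attribute [local instance] HasDerivedCategory.standard

namespace GrothLib.NLAmp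

variable {A : Type u} [CommRing A]

lemma rel_neg_one : (ComplexShape.up ℤ).Rel (-1) 0 := by simp

lemma neg_one_ne : (-1 : ℤ) ≠ 0 := by omega

/-- A linear map as a complex in degrees `-1, 0`. -/
noncomputable abbrev two {M F : Type u} [AddCommGroup M] [Module A M] [AddCommGroup F] [Module A F]
    (f : M →ₗ[A] F) : DRing.Cx A :=
  HomologicalComplex.double (ModuleCat.ofHom f) rel_neg_one

variable {M F M' F' : Type u} [AddCommGroup M] [Module A M] [AddCommGroup F] [Module A F]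
  [AddCommGroup M'] [Module A M'] [AddCommGroup F'] [Module A F']

theorem vanishesOutside_two (f : M →ₗ[A] F) : DRing.VanishesOutside (two f) (-1) 0 := fun i hi =>
  isZero_double_X _ _ i (by omega) (by omega)

theorem termwise_two (f : M →ₗ[A] F) (Q : ∀ (X : Type u) [AddCommGroup X] [Module A X], Prop)
    (hiso : ∀ {X Y : ModuleCat.{u} A}, (X ≅ Y) → Q Y → Q X) (h0 : ∀ X : ModuleCat.{u} A, IsZero X → Q X)
    (hM : Q M) (hF : Q F) (i : ℤ) : Q ((two f).X i) := by
  by_cases h₀ : i = -1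
  · subst h₀
    exact hiso (doubleXIso₀ (ModuleCat.ofHom f) rel_neg_one) hM
  by_cases h₁ : i = 0
  · subst h₁
    exact hiso (doubleXIso₁ (ModuleCat.ofHom f) rel_neg_one neg_one_ne) hF
  exact h0 _ (isZero_double_X _ _ i h₀ h₁)

theorem termwiseFlat_two (f : M →ₗ[A] F) [Module.Flat A M] [Module.Flat A F] : DRing.TermwiseFlat (two f) :=
  fun i => termwise_two f (fun X _ _ => Module.Flat A X)
    (fun e _ => Module.Flat.of_linearEquiv e.toLinearEquiv)
    (fun X hX => by haveI := ModuleCat.subsingleton_of_isZero hX; infer_instance) inferInstance inferInstance i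

theorem termwiseFiniteProjective_two (f : M →ₗ[A] F) [Module.Finite A M] [Module.Finite A F]
    [Module.Projective A M] [Module.Projective A F] : DRing.TermwiseFiniteProjective (two f) :=
  fun i => termwise_two f (fun X _ _ => Module.Finite A X ∧ Module.Projective A X)
    (fun e h => by
      haveI := h.1
      haveI := h.2
      exact ⟨Module.Finite.equiv e.toLinearEquiv.symm, Module.Projective.of_equiv e.toLinearEquiv.symm⟩)
    (fun X hX => by haveI := ModuleCat.subsingleton_of_isZero hX; exact ⟨inferInstance, inferInstance⟩)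
    ⟨inferInstance, inferInstance⟩ ⟨inferInstance, inferInstance⟩ i

/-- A commutative square. -/
noncomputable def twoHom (f : M →ₗ[A] F) (f' : M' →ₗ[A] F') (φ₀ : M →ₗ[A] M') (φ₁ : F →ₗ[A] F')
    (h : f'.comp φ₀ = φ₁.comp f) : two f ⟶ two f' :=
  mkHomFromDouble rel_neg_one neg_one_ne
    (ModuleCat.ofHom φ₀ ≫ (doubleXIso₀ (ModuleCat.ofHom f') rel_neg_one).inv)
    (ModuleCat.ofHom φ₁ ≫ (doubleXIso₁ (ModuleCat.ofHom f') rel_neg_one neg_one_ne).inv)
    (by
      rw [double_d (ModuleCat.ofHom f') rel_neg_one neg_one_ne, Category.assoc, Iso.inv_hom_id_assoc,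
        ← Category.assoc, ← Category.assoc, ← ModuleCat.ofHom_comp, ← ModuleCat.ofHom_comp, h])
    (fun k _ => by rw [double_d_eq_zero₀ _ _ _ _ (Ne.symm neg_one_ne), comp_zero])

/-- Maps differing by a boundary are homotopic. -/
noncomputable def twoHomotopy (f : M →ₗ[A] F) (φ : two f ⟶ two f) (s : F →ₗ[A] M)
    (h₀ : φ.f (-1) = 𝟙 _ + (doubleXIso₀ (ModuleCat.ofHom f) rel_neg_one).hom ≫ ModuleCat.ofHom (s.comp f) ≫
      (doubleXIso₀ (ModuleCat.ofHom f) rel_neg_one).inv)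
    (h₁ : φ.f 0 = 𝟙 _ + (doubleXIso₁ (ModuleCat.ofHom f) rel_neg_one neg_one_ne).hom ≫
      ModuleCat.ofHom (f.comp s) ≫ (doubleXIso₁ (ModuleCat.ofHom f) rel_neg_one neg_one_ne).inv) :
    Homotopy φ (𝟙 _) :=
  let H : ∀ i j : ℤ, (two f).X i ⟶ (two f).X j := fun i j =>
    if h : i = 0 ∧ j = -1 then
      eqToHom (by rw [h.1]) ≫ (doubleXIso₁ (ModuleCat.ofHom f) rel_neg_one neg_one_ne).hom ≫ ModuleCat.ofHom s ≫
        (doubleXIso₀ (ModuleCat.ofHom f) rel_neg_one).inv ≫ eqToHom (by rw [h.2])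
    else 0
  { hom := H
    zero := fun i j hij => dif_neg fun h => hij (by obtain ⟨rfl, rfl⟩ := h; simp)
    comm := fun i => by
      have hn : dNext i H = (two f).d i (i + 1) ≫ H (i + 1) i := dNext_eq H (by simp)
      have hp : prevD i H = H i (i - 1) ≫ (two f).d (i - 1) i := prevD_eq H (by simp)
      rw [hn, hp]
      by_cases h₀' : i = -1
      · subst h₀'
        rw [show H (-1) (-1 - 1) = 0 from dif_neg (by omega), zero_comp, add_zero,
          show H (-1 + 1) (-1) = (doubleXIso₁ (ModuleCat.ofHom f) rel_neg_one neg_one_ne).hom ≫ ModuleCat.ofHom s ≫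
            (doubleXIso₀ (ModuleCat.ofHom f) rel_neg_one).inv from by simp [H]]
        show φ.f (-1) = (two f).d (-1) 0 ≫ _ + _
        rw [double_d (ModuleCat.ofHom f) rel_neg_one neg_one_ne, h₀, add_comm]
        simp [ModuleCat.ofHom_comp]
      by_cases h₁' : i = 0
      · subst h₁'
        rw [show H (0 + 1) 0 = 0 from dif_neg (by omega), comp_zero, zero_add,
          show H 0 (0 - 1) = (doubleXIso₁ (ModuleCat.ofHom f) rel_neg_one neg_one_ne).hom ≫ ModuleCat.ofHom s ≫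
            (doubleXIso₀ (ModuleCat.ofHom f) rel_neg_one).inv from by simp [H]]
        show φ.f 0 = _ ≫ (two f).d (-1) 0 + _
        rw [double_d (ModuleCat.ofHom f) rel_neg_one neg_one_ne, h₁, add_comm]
        simp [ModuleCat.ofHom_comp]
      exact (isZero_double_X _ _ i h₀' h₁').eq_of_src _ _ }

theorem twoHom_comp_f₀ (f : M →ₗ[A] F) (f' : M' →ₗ[A] F') (φ₀ : M →ₗ[A] M') (φ₁ : F →ₗ[A] F')
    (h : f'.comp φ₀ = φ₁.comp f) (ψ₀ : M' →ₗ[A] M) (ψ₁ : F' →ₗ[A] F) (h' : f.comp ψ₀ = ψ₁.comp f')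
    (s : F →ₗ[A] M) (hs : ψ₀.comp φ₀ = LinearMap.id + s.comp f) :
    (twoHom f f' φ₀ φ₁ h ≫ twoHom f' f ψ₀ ψ₁ h').f (-1) = 𝟙 _ +
      (doubleXIso₀ (ModuleCat.ofHom f) rel_neg_one).hom ≫ ModuleCat.ofHom (s.comp f) ≫
        (doubleXIso₀ (ModuleCat.ofHom f) rel_neg_one).inv := by
  have h2 : ModuleCat.ofHom φ₀ ≫ ModuleCat.ofHom ψ₀ =
      𝟙 (ModuleCat.of A M) + ModuleCat.ofHom (s.comp f) := by
    rw [← ModuleCat.ofHom_comp, hs]
    rfl
  rw [HomologicalComplex.comp_f, twoHom, twoHom, mkHomFromDouble_f₀, mkHomFromDouble_f₀]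
  simp only [Category.assoc, Iso.inv_hom_id_assoc]
  rw [← Category.assoc (ModuleCat.ofHom φ₀), h2]
  simp [Preadditive.add_comp, Preadditive.comp_add]

theorem twoHom_comp_f₁ (f : M →ₗ[A] F) (f' : M' →ₗ[A] F') (φ₀ : M →ₗ[A] M') (φ₁ : F →ₗ[A] F')
    (h : f'.comp φ₀ = φ₁.comp f) (ψ₀ : M' →ₗ[A] M) (ψ₁ : F' →ₗ[A] F) (h' : f.comp ψ₀ = ψ₁.comp f')
    (s : F →ₗ[A] M) (hs : ψ₁.comp φ₁ = LinearMap.id + f.comp s) :
    (twoHom f f' φ₀ φ₁ h ≫ twoHom f' f ψ₀ ψ₁ h').f 0 = 𝟙 _ +
      (doubleXIso₁ (ModuleCat.ofHom f) rel_neg_one neg_one_ne).hom ≫ ModuleCat.ofHom (f.comp s) ≫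
        (doubleXIso₁ (ModuleCat.ofHom f) rel_neg_one neg_one_ne).inv := by
  have h2 : ModuleCat.ofHom φ₁ ≫ ModuleCat.ofHom ψ₁ =
      𝟙 (ModuleCat.of A F) + ModuleCat.ofHom (f.comp s) := by
    rw [← ModuleCat.ofHom_comp, hs]
    rfl
  rw [HomologicalComplex.comp_f, twoHom, twoHom, mkHomFromDouble_f₁, mkHomFromDouble_f₁]
  simp only [Category.assoc, Iso.inv_hom_id_assoc]
  rw [← Category.assoc (ModuleCat.ofHom φ₁), h2]
  simp [Preadditive.add_comp, Preadditive.comp_add]

/-- Two-term complexes related by maps which are inverse up to homotopy are isomorphic in `D(A)`. -/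
theorem nonempty_toD_iso (f : M →ₗ[A] F) (f' : M' →ₗ[A] F') (φ₀ : M →ₗ[A] M') (φ₁ : F →ₗ[A] F')
    (ψ₀ : M' →ₗ[A] M) (ψ₁ : F' →ₗ[A] F) (hφ : f'.comp φ₀ = φ₁.comp f) (hψ : f.comp ψ₀ = ψ₁.comp f')
    (s : F →ₗ[A] M) (hs₀ : ψ₀.comp φ₀ = LinearMap.id + s.comp f) (hs₁ : ψ₁.comp φ₁ = LinearMap.id + f.comp s)
    (s' : F' →ₗ[A] M') (hs₀' : φ₀.comp ψ₀ = LinearMap.id + s'.comp f')
    (hs₁' : φ₁.comp ψ₁ = LinearMap.id + f'.comp s') :
    Nonempty (DRing.toD (two f) ≅ DRing.toD (two f')) := by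
  let a := twoHom f f' φ₀ φ₁ hφ
  let b := twoHom f' f ψ₀ ψ₁ hψ
  let e : HomotopyEquiv (two f) (two f') :=
    { hom := a
      inv := b
      homotopyHomInvId := twoHomotopy f (a ≫ b) s (twoHom_comp_f₀ f f' φ₀ φ₁ hφ ψ₀ ψ₁ hψ s hs₀)
        (twoHom_comp_f₁ f f' φ₀ φ₁ hφ ψ₀ ψ₁ hψ s hs₁)
      homotopyInvHomId := twoHomotopy f' (b ≫ a) s' (twoHom_comp_f₀ f' f ψ₀ ψ₁ hψ φ₀ φ₁ hφ s' hs₀')
        (twoHom_comp_f₁ f' f ψ₀ ψ₁ hψ φ₀ φ₁ hφ s' hs₁') }
  haveI : QuasiIso e.hom := HomotopyEquiv.quasiIso_hom e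
  exact ⟨asIso (DerivedCategory.Q.map e.hom)⟩

/-- Tor amplitude in `[-1, 0]` forces the left term of a two-term complex to be flat. -/
theorem flat_of_hasTorAmplitudeIn_two (f : M →ₗ[A] F) [Module.Flat A F]
    (h : DRing.HasTorAmplitudeIn A (-1) 0 (DRing.toD (two f))) : Module.Flat A M := by
  let single (i : ℤ) (X : Type u) [AddCommGroup X] [Module A X] : DRing.Cx A :=
    (HomologicalComplex.single (ModuleCat.{u} A) (ComplexShape.up ℤ) i).obj (ModuleCat.of A X)
  let α : single 0 F ⟶ two f :=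
    mkHomFromSingle (doubleXIso₁ (ModuleCat.ofHom f) rel_neg_one neg_one_ne).inv
      fun j _ => by rw [double_d_eq_zero₀ _ _ _ _ (Ne.symm neg_one_ne), comp_zero]
  let β : two f ⟶ single (-1) M :=
    mkHomFromDouble rel_neg_one neg_one_ne
      (singleObjXSelf (ComplexShape.up ℤ) (-1) (ModuleCat.of A M)).inv 0
      (by simp [single]) (fun k _ => zero_comp)
  have hαβ : α ≫ β = 0 := by
    apply HomologicalComplex.from_single_hom_ext
    simp [α, β]
  let S := ShortComplex.mk α β hαβ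
  have hS : S.ShortExact := HomologicalComplex.shortExact_of_degreewise_shortExact _ fun i => by
    by_cases h₀ : i = -1
    · subst h₀
      refine { exact := ?_, mono_f := ?_, epi_g := ?_ }
      · haveI : IsIso (β.f (-1)) := by
          simp only [β, mkHomFromDouble_f₀]
          infer_instance
        exact (ShortComplex.exact_iff_mono _
          ((isZero_single_obj_X (ComplexShape.up ℤ) 0 (ModuleCat.of A F) (-1) neg_one_ne).eq_of_src _ _)).mpr
          (inferInstanceAs (Mono (β.f (-1))))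
      · exact ⟨fun _ _ _ => (isZero_single_obj_X (ComplexShape.up ℤ) 0 (ModuleCat.of A F) (-1) neg_one_ne).eq_of_tgt _ _⟩
      · haveI : IsIso (β.f (-1)) := by
          simp only [β, mkHomFromDouble_f₀]
          infer_instance
        exact inferInstanceAs (Epi (β.f (-1)))
    by_cases h₁ : i = 0
    · subst h₁
      have hz : IsZero ((single (-1) M).X 0) :=
        isZero_single_obj_X (ComplexShape.up ℤ) (-1) (ModuleCat.of A M) 0 neg_one_ne.symm
      haveI : IsIso (α.f 0) := by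
        simp only [α, mkHomFromSingle_f]
        infer_instance
      refine { exact := ?_, mono_f := inferInstanceAs (Mono (α.f 0)), epi_g := ?_ }
      · exact (ShortComplex.exact_iff_epi _ (hz.eq_of_tgt _ _)).mpr (inferInstanceAs (Epi (α.f 0)))
      · exact ⟨fun _ _ _ => hz.eq_of_src _ _⟩
    have hz₁ : IsZero ((single 0 F).X i) := isZero_single_obj_X (ComplexShape.up ℤ) 0 (ModuleCat.of A F) i h₁
    have hz₃ : IsZero ((single (-1) M).X i) :=
      isZero_single_obj_X (ComplexShape.up ℤ) (-1) (ModuleCat.of A M) i h₀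
    exact ShortComplex.ShortExact.mk' (ShortComplex.exact_of_isZero_X₂ _ (isZero_double_X (ModuleCat.ofHom f) rel_neg_one i h₀ h₁))
      ⟨fun _ _ _ => hz₁.eq_of_tgt _ _⟩ ⟨fun _ _ _ => hz₃.eq_of_src _ _⟩
  have h1 : DRing.HasTorAmplitudeIn A 0 1 (DRing.toD (single 0 F)) := by
    refine ⟨single 0 F, fun i hi => isZero_single_obj_X _ _ _ _ (by omega), fun i => ?_, ⟨Iso.refl _⟩⟩
    by_cases hi : i = 0
    · subst hi
      exact Module.Flat.of_linearEquiv
        (singleObjXSelf (ComplexShape.up ℤ) 0 (ModuleCat.of A F)).toLinearEquiv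
    · haveI := ModuleCat.subsingleton_of_isZero
        (isZero_single_obj_X (ComplexShape.up ℤ) 0 (ModuleCat.of A F) i hi)
      infer_instance
  have h3 : DRing.HasTorAmplitudeIn A (-1) 0 (DRing.toD (single (-1) M)) :=
    GrothLib.DR.hasTorAmplitudeIn_obj₃ _ (DerivedCategory.triangleOfSES_distinguished hS)
      (a := -1) (b := 0) h1 h
  obtain ⟨E, hv, hf, ⟨e⟩⟩ := h3
  have hb : DRing.VanishesAbove E 0 := fun i hi => hv i (Or.inr hi)
  have hex : ∀ i, -1 < i → E.ExactAt i := fun i hi => by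
    refine (GrothLib.DR.exactAt_iff E i).2 (GrothLib.DR.subsingleton_HD_of_iso e.symm i
      ((GrothLib.DR.exactAt_iff (single (-1) M) i).1 ?_))
    exact ShortComplex.exact_of_isZero_X₂ _
      (isZero_single_obj_X (ComplexShape.up ℤ) (-1) (ModuleCat.of A M) i (by omega))
  have hker : Module.Flat A (LinearMap.ker (E.d (-1) (-1 + 1)).hom) :=
    GrothLib.DR.flat_ker_of_exact E 0 hb (-1) (fun j _ => hf j) hex (-1) le_rfl
  let T := E.sc' (-1 - 1) (-1) (-1 + 1)
  have hTf : T.f = 0 := (hv (-1 - 1) (Or.inl (by omega))).eq_of_src _ _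
  let eH : E.homology (-1) ≅ T.moduleCatLeftHomologyData.H :=
    ShortComplex.homologyMapIso (E.isoSc' (-1 - 1) (-1) (-1 + 1) (by simp) (by simp)) ≪≫
      T.moduleCatLeftHomologyData.homologyIso
  haveI : IsIso T.moduleCatLeftHomologyData.π :=
    T.moduleCatLeftHomologyData.isIso_π hTf
  let e₁ : T.moduleCatLeftHomologyData.K ≅ ModuleCat.of A M :=
    asIso T.moduleCatLeftHomologyData.π ≪≫ eH.symm ≪≫
      ((DerivedCategory.homologyFunctorFactors _ (-1)).app E).symm ≪≫
      (DerivedCategory.homologyFunctor (ModuleCat.{u} A) (-1)).mapIso e ≪≫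
      (DerivedCategory.homologyFunctorFactors _ (-1)).app (single (-1) M) ≪≫
      singleObjHomologySelfIso (ComplexShape.up ℤ) (-1) (ModuleCat.of A M)
  haveI : Module.Flat A T.moduleCatLeftHomologyData.K := hker
  exact Module.Flat.of_linearEquiv e₁.toLinearEquiv.symm

end GrothLib.NLAmp
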